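import Mathlib

set_option autoImplicit false

namespace Cfsg.Agent.H891.MinDeg

open Equiv Finset

/-- Two permutations whose supports meet in exactly one point have a commutator which is a
three-cycle. -/
theorem isThreeCycle_comm {Ω : Type*} [Fintype Ω] [DecidableEq Ω] (u v : Perm Ω) (p : Ω)
    (hu : u p ≠ p) (hv : v p ≠ p) (h : ∀ x, u x ≠ x → v x ≠ x → x = p) :
    (u * v * u⁻¹ * v⁻¹).IsThreeCycle := by
  have hup : v (u p) = u p := by
    by_contra hc
    exact hu (h (u p) (fun h' => hu (u.injective h')) hc)
  have hvp : u (v p) = v p := by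
    by_contra hc
    exact hv (h (v p) hc (fun h' => hv (v.injective h')))
  have hne : u p ≠ v p := by
    intro h'
    apply hu
    apply u.injective
    rw [h', hvp]
  have key : u * v * u⁻¹ * v⁻¹ = swap p (v p) * swap p (u p) := by
    have aux : ∀ z, u (v z) = (swap p (v p) * swap p (u p)) (v (u z)) := by
      intro z
      rw [Perm.mul_apply]
      by_cases hz : z = p
      · subst hz
        rw [hup, swap_apply_right, swap_apply_left, hvp]
      by_cases h1 : u z = p
      · have hvz : v z = z := by
          by_contra hc
          exact hz (h z (fun h' => hz (by rw [← h', h1])) hc)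
        rw [hvz, h1, swap_apply_of_ne_of_ne hv (Ne.symm hne), swap_apply_right]
      by_cases h2 : v z = p
      · have huz : u z = z := by
          by_contra hc
          exact hz (h z hc (fun h' => hz (by rw [← h', h2])))
        rw [huz, h2, swap_apply_left, swap_apply_of_ne_of_ne hu hne]
      by_cases h3 : u z = z
      · rw [h3]
        by_cases h4 : v z = z
        · rw [h4, h3]
          rw [swap_apply_of_ne_of_ne hz, swap_apply_of_ne_of_ne hz]
          · intro h'
            apply hv
            apply v.injective
            rw [← h', h4]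
          · intro h'
            apply hu
            apply u.injective
            rw [← h', h3]
        · have h5 : u (v z) = v z := by
            by_contra hc
            exact h2 (h (v z) hc (fun h' => h4 (v.injective h')))
          rw [h5, swap_apply_of_ne_of_ne h2, swap_apply_of_ne_of_ne h2]
          · intro h'
            exact hz (v.injective h')
          · intro h'
            apply h4
            apply v.injective
            rw [h', hup]
      · have h4 : v z = z := by
          by_contra hc
          exact hz (h z h3 hc)
        have h5 : v (u z) = u z := by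
          by_contra hc
          exact h1 (h (u z) (fun h' => h3 (u.injective h')) hc)
        rw [h4, h5, swap_apply_of_ne_of_ne h1, swap_apply_of_ne_of_ne h1]
        · intro h'
          apply h3
          apply u.injective
          rw [h', hvp]
        · intro h'
          exact hz (u.injective h')
    ext x
    have := aux (u⁻¹ (v⁻¹ x))
    have e1 : u (u⁻¹ (v⁻¹ x)) = v⁻¹ x := u.apply_symm_apply _
    have e2 : v (v⁻¹ x) = x := v.apply_symm_apply _
    rw [e1, e2] at this
    exact this
  rw [key]
  exact Perm.isThreeCycle_swap_mul_swap_same hv.symm hu.symm hne.symm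

/-- Counting in a group transitive on the points other than `p`. -/
theorem exists_disjoint_of_two_trans {G Ω : Type*} [Group G] [Finite G] [MulAction G Ω]
    [Fintype Ω] [DecidableEq Ω] (p : Ω)
    (hT : ∀ x y : Ω, x ≠ p → y ≠ p → ∃ k : G, k • p = p ∧ k • x = y)
    (A : Finset Ω) (hA : p ∉ A) (hcard : A.card * A.card < Fintype.card Ω - 1) :
    ∃ h : G, h • p = p ∧ ∀ b ∈ A, h • b ∉ A := by
  classical
  have := Fintype.ofFinite G
  by_contra hcon
  push Not at hcon
  set S : Finset G := univ.filter (fun h : G => h • p = p) with hS
  have hSpos : 0 < S.card := card_pos.mpr ⟨1, by simp [hS]⟩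
  -- number of `h ∈ S` with `h • b = a`
  let N : Ω → Ω → ℕ := fun a b => (S.filter (fun h => h • b = a)).card
  have hNeq : ∀ a a' b, a ≠ p → a' ≠ p → N a b ≤ N a' b := by
    intro a a' b ha ha'
    obtain ⟨k, hk1, hk2⟩ := hT a a' ha ha'
    apply card_le_card_of_injOn (fun h => k * h)
    · intro h hh
      simp only [coe_filter, Set.mem_ofPred_eq, hS, mem_filter, mem_univ, true_and] at hh ⊢
      rw [mul_smul, mul_smul, hh.1, hh.2, hk1, hk2]
      exact ⟨rfl, rfl⟩
    · intro x _ y _ hxy
      exact mul_left_cancel hxy
  have hN : ∀ a b, a ≠ p → b ≠ p → (Fintype.card Ω - 1) * N a b = S.card := by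
    intro a b ha hb
    have h1 : S.card = ∑ y ∈ univ.erase p, N y b := by
      apply card_eq_sum_card_fiberwise
      intro h hh
      simp only [coe_erase, coe_univ, Set.mem_sdiff, Set.mem_univ, true_and,
        Set.mem_singleton_iff]
      intro h'
      simp only [hS, coe_filter, mem_univ, true_and, Set.mem_ofPred_eq] at hh
      rw [← hh] at h'
      exact hb (smul_left_cancel h h')
    rw [h1, sum_congr rfl (g := fun _ => N a b)]
    · rw [sum_const, card_erase_of_mem (mem_univ p), card_univ, smul_eq_mul]
    · intro y hy
      exact le_antisymm (hNeq _ _ _ (ne_of_mem_erase hy) ha) (hNeq _ _ _ ha (ne_of_mem_erase hy))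
  have hle : S.card ≤ ∑ a ∈ A, ∑ b ∈ A, N a b := by
    calc S.card = ∑ h ∈ S, 1 := by simp
      _ ≤ ∑ h ∈ S, ∑ a ∈ A, ∑ b ∈ A, (if h • b = a then 1 else 0) := by
          apply sum_le_sum
          intro h hh
          obtain ⟨b, hb, hb'⟩ := hcon h (by simpa [hS] using hh)
          calc 1 = (if h • b = h • b then 1 else 0) := by simp
            _ ≤ ∑ b' ∈ A, (if h • b' = h • b then 1 else 0) :=
              single_le_sum (f := fun b' => if h • b' = h • b then 1 else 0)
                (fun _ _ => Nat.zero_le _) hb
            _ ≤ _ := single_le_sum (f := fun a => ∑ b ∈ A, (if h • b = a then 1 else 0))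
                (fun _ _ => Nat.zero_le _) hb'
      _ = ∑ a ∈ A, ∑ b ∈ A, N a b := by
          rw [sum_comm]
          apply sum_congr rfl
          intro a _
          rw [sum_comm]
          apply sum_congr rfl
          intro b _
          simp only [N, card_filter]
  have h2 : (Fintype.card Ω - 1) * S.card ≤ A.card * A.card * S.card := by
    calc (Fintype.card Ω - 1) * S.card ≤ (Fintype.card Ω - 1) * ∑ a ∈ A, ∑ b ∈ A, N a b :=
          Nat.mul_le_mul_left _ hle
      _ = ∑ a ∈ A, ∑ b ∈ A, (Fintype.card Ω - 1) * N a b := by
          rw [mul_sum]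
          apply sum_congr rfl
          intro a _
          rw [mul_sum]
      _ = ∑ a ∈ A, ∑ b ∈ A, S.card := by
          apply sum_congr rfl
          intro a ha
          apply sum_congr rfl
          intro b hb
          exact hN a b (fun h => hA (h ▸ ha)) (fun h => hA (h ▸ hb))
      _ = A.card * A.card * S.card := by
          simp [sum_const, mul_assoc]
  have h3 := Nat.le_of_mul_le_mul_right h2 hSpos
  omega

/-- A 2-transitive group containing an element moving few points contains the alternating
group. -/
theorem two_trans_bound {G Ω : Type*} [Group G] [Finite G] [MulAction G Ω]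
    [Fintype Ω] [DecidableEq Ω]
    (hprim : MulAction.IsPreprimitive G Ω)
    (hA : ¬ alternatingGroup Ω ≤ (MulAction.toPermHom G Ω).range)
    (hT : ∀ p x y : Ω, x ≠ p → y ≠ p → ∃ k : G, k • p = p ∧ k • x = y)
    (g : G) (p : Ω) (hp : g • p ≠ p) :
    Fintype.card Ω - 1 ≤ ((univ.filter (fun x : Ω => g • x ≠ x)).card - 1) *
      ((univ.filter (fun x : Ω => g • x ≠ x)).card - 1) := by
  classical
  by_contra hlt
  push Not at hlt
  set D : Finset Ω := univ.filter (fun x : Ω => g • x ≠ x) with hD
  have hpD : p ∈ D := by simp [hD, hp]
  obtain ⟨h, hhp, hh⟩ := exists_disjoint_of_two_trans (G := G) p (hT p) (D.erase p)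
    (by simp) (by rw [card_erase_of_mem hpD]; exact hlt)
  apply hA
  let u : Perm Ω := MulAction.toPermHom G Ω g
  let v : Perm Ω := MulAction.toPermHom G Ω (h * g * h⁻¹)
  have hu : ∀ x, u x = g • x := fun x => rfl
  have hv : ∀ x, v x = h • g • h⁻¹ • x := fun x => by
    change (h * g * h⁻¹) • x = _
    rw [mul_smul, mul_smul]
  have h3 : (u * v * u⁻¹ * v⁻¹).IsThreeCycle := by
    apply isThreeCycle_comm u v p
    · rw [hu]; exact hp
    · rw [hv]
      intro h'
      have h1 : h⁻¹ • p = p := by rw [inv_smul_eq_iff, hhp]
      rw [h1] at h'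
      exact hp ((eq_inv_smul_iff.mpr h').trans h1)
    · intro x hx1 hx2
      by_contra hxp
      rw [hu] at hx1
      rw [hv] at hx2
      apply hh (h⁻¹ • x)
      · rw [mem_erase]
        refine ⟨?_, ?_⟩
        · intro h'
          apply hxp
          rw [inv_smul_eq_iff] at h'
          rw [h', hhp]
        · simp only [hD, mem_filter, mem_univ, true_and]
          intro h'
          apply hx2
          rw [h', smul_inv_smul]
      · rw [smul_inv_smul, mem_erase]
        exact ⟨hxp, by simpa [hD] using hx1⟩
  have hprim' : MulAction.IsPreprimitive (MulAction.toPermHom G Ω).range Ω := by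
    have hs : Function.Surjective (MulAction.toPermHom G Ω).rangeRestrict :=
      MonoidHom.rangeRestrict_surjective _
    let f : Ω →ₑ[(MulAction.toPermHom G Ω).rangeRestrict] Ω :=
      { toFun := id, map_smul' := fun _ _ => rfl }
    exact (MulAction.isPreprimitive_congr (f := f) hs Function.bijective_id).mp hprim
  refine Perm.alternatingGroup_le_of_isPreprimitive_of_isThreeCycle_mem hprim' h3 ?_
  have hu' : u ∈ (MulAction.toPermHom G Ω).range := ⟨g, rfl⟩
  have hv' : v ∈ (MulAction.toPermHom G Ω).range := ⟨h * g * h⁻¹, rfl⟩
  exact mul_mem (mul_mem (mul_mem hu' hv') (inv_mem hu')) (inv_mem hv')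

end Cfsg.Agent.H891.MinDeg
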