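import Cfsg.Agent.H891.QuadInv

/-!
# Quadratic elements and coprime action, `p ≥ 5`

If `a` is a unit with `(a - 1)² = 0` of a finite-dimensional algebra over a field of characteristic `p ≥ 5` and `a` normalises
a finite `p'`-subgroup `K` of units, then `a` centralises `K`.
-/

set_option autoImplicit false
set_option linter.unusedSectionVars false

open Polynomial TensorProduct

namespace Cfsg.Agent.H891.QP

universe u v

theorem pow_fix {k V : Type*} [Field k] [IsAlgClosed k] [AddCommGroup V] [Module k V] {p : ℕ} [Fact p.Prime] [CharP k p]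
    (U : Module.End k V) {τ : k} (hτ : τ ^ 2 ≠ 4) {y : V} (h : U (U y) - τ • U y + y = 0) {κ : ℕ}
    (hn : (U ^ (κ * p)) y = y) : (U ^ κ) y = y := by
  have hn1 : (U ^ (κ * p)) (U y) = U y := by
    have : (U ^ (κ * p)) (U y) = U ((U ^ (κ * p)) y) := by
      rw [← Module.End.mul_apply, ← Module.End.mul_apply, ← pow_succ, ← pow_succ']
    rw [this, hn]
  obtain ⟨α, hα⟩ : ∃ α : k, α ^ 2 - τ * α + 1 = 0 := by
    have h1 : ((X : k[X]) ^ 2 - C τ * X + 1).degree ≠ 0 := by
      have : ((X : k[X]) ^ 2 - C τ * X + 1) = C 1 * X ^ 2 + C (-τ) * X + C 1 := by simp; ring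
      rw [this, degree_quadratic one_ne_zero]
      norm_num
    obtain ⟨α, hα⟩ := IsAlgClosed.exists_root _ h1
    refine ⟨α, ?_⟩
    simpa [IsRoot] using hα
  set β := τ - α with hβ
  have hαβ : α * β = 1 := by rw [hβ]; linear_combination -hα
  have hne : α - β ≠ 0 := by
    intro h0
    apply hτ
    have h1 : α = β := sub_eq_zero.mp h0
    have h2 : τ = α + β := by rw [hβ]; ring
    rw [h2]
    linear_combination (4 : k) * hαβ + (α - β) * h0
  have key : ∀ (a b : k), a * b = 1 → a + b = τ → (U ^ κ) (U y - b • y) = U y - b • y := by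
    intro a b hab hs
    set y1 := U y - b • y with hy1
    have e1 : U y1 = a • y1 := by
      rw [hy1, map_sub, map_smul, smul_sub, smul_smul, hab, one_smul]
      have : U (U y) = τ • U y - y := by rw [← sub_eq_zero, ← h]; abel
      rw [this, ← hs]
      module
    have e2 : ∀ n : ℕ, (U ^ n) y1 = a ^ n • y1 := by
      intro n
      induction n with
      | zero => simp
      | succ n ih => rw [pow_succ', Module.End.mul_apply, ih, map_smul, e1, smul_smul, pow_succ]
    have e3 : (U ^ (κ * p)) y1 = y1 := by rw [hy1, map_sub, map_smul, hn, hn1]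
    rw [e2] at e3 ⊢
    by_cases hy : y1 = 0
    · rw [hy, smul_zero]
    · have e4 : (a ^ (κ * p) - 1) • y1 = 0 := by rw [sub_smul, one_smul, e3, sub_self]
      have e5 : a ^ (κ * p) = 1 := by
        rcases smul_eq_zero.mp e4 with h | h
        · exact sub_eq_zero.mp h
        · exact absurd h hy
      have e6 : (a ^ κ - 1) ^ p = 0 := by
        rw [sub_pow_char, one_pow, ← pow_mul, e5, sub_self]
      rw [sub_eq_zero.mp (pow_eq_zero_iff (Fact.out : p.Prime).ne_zero |>.mp e6), one_smul]
  have k1 := key α β hαβ (by rw [hβ]; ring)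
  have k2 := key β α (by rw [mul_comm]; exact hαβ) (by rw [hβ]; ring)
  have k3 : (α - β) • y = (U y - β • y) - (U y - α • y) := by module
  have k4 : (α - β) • ((U ^ κ) y) = (α - β) • y := by
    rw [← map_smul, k3, map_sub, k1, k2]
  have := congrArg (fun z => (α - β)⁻¹ • z) k4
  simpa [smul_smul, inv_mul_cancel₀ hne] using this

variable {F : Type u} {A : Type v} [Field F] [Ring A] [Algebra F A]

/-- `g ∈ a^m K` -/
def InC {G : Type*} [Group G] (K : Subgroup G) (a : G) (g : G) (m : ℤ) : Prop := a ^ (-m) * g ∈ K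

section
variable {G : Type*} [Group G] {K : Subgroup G} {a : G}

theorem conj_zpow [Finite K] (hn : ∀ k ∈ K, a * k * a⁻¹ ∈ K) (n : ℤ) : ∀ k ∈ K, a ^ n * k * (a ^ n)⁻¹ ∈ K := by
  have h1 : ∀ k ∈ K, a⁻¹ * k * a ∈ K := by
    let f : K → K := fun k => ⟨a * k * a⁻¹, hn k k.2⟩
    have hf : Function.Injective f := by
      intro x y h
      have : a * (x : G) * a⁻¹ = a * y * a⁻¹ := congrArg Subtype.val h
      exact Subtype.ext (mul_left_cancel (mul_right_cancel this))
    have hs := Finite.injective_iff_surjective.mp hf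
    intro k hk
    obtain ⟨x, hx⟩ := hs ⟨k, hk⟩
    have : a * (x : G) * a⁻¹ = k := congrArg Subtype.val hx
    rw [← this]
    have e : a⁻¹ * (a * (x : G) * a⁻¹) * a = x := by group
    rw [e]; exact x.2
  have h2 : ∀ n : ℕ, ∀ k ∈ K, a ^ n * k * (a ^ n)⁻¹ ∈ K := by
    intro n
    induction n with
    | zero => intro k hk; simpa using hk
    | succ n ih =>
      intro k hk
      have e : a ^ (n + 1) * k * (a ^ (n + 1))⁻¹ = a ^ n * (a * k * a⁻¹) * (a ^ n)⁻¹ := by
        rw [pow_succ]; group
      rw [e]; exact ih _ (hn k hk)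
  have h3 : ∀ n : ℕ, ∀ k ∈ K, (a ^ n)⁻¹ * k * a ^ n ∈ K := by
    intro n
    induction n with
    | zero => intro k hk; simpa using hk
    | succ n ih =>
      intro k hk
      have e : (a ^ (n + 1))⁻¹ * k * a ^ (n + 1) = (a ^ n)⁻¹ * (a⁻¹ * k * a) * a ^ n := by
        rw [pow_succ']; group
      rw [e]; exact ih _ (h1 k hk)
  intro k hk
  obtain ⟨m, rfl | rfl⟩ := Int.eq_nat_or_neg n
  · simpa using h2 m k hk
  · simpa using h3 m k hk

theorem InC.mul [Finite K] (hn : ∀ k ∈ K, a * k * a⁻¹ ∈ K) {g h : G} {m n : ℤ} (hg : InC K a g m) (hh : InC K a h n) :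
    InC K a (g * h) (m + n) := by
  unfold InC at *
  have e : a ^ (-(m + n)) * (g * h) = (a ^ (-n) * (a ^ (-m) * g) * (a ^ (-n))⁻¹) * (a ^ (-n) * h) := by
    rw [neg_add_rev, zpow_add]; group
  rw [e]
  exact K.mul_mem (conj_zpow hn _ _ hg) hh

theorem InC.inv [Finite K] (hn : ∀ k ∈ K, a * k * a⁻¹ ∈ K) {g : G} {m : ℤ} (hg : InC K a g m) :
    InC K a g⁻¹ (-m) := by
  unfold InC at *
  have e : a ^ (- -m) * g⁻¹ = a ^ m * (a ^ (-m) * g)⁻¹ * (a ^ m)⁻¹ := by
    rw [mul_inv_rev, neg_neg, zpow_neg]; group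
  rw [e]
  exact conj_zpow hn _ _ (K.inv_mem hg)

theorem InC.pow [Finite K] (hn : ∀ k ∈ K, a * k * a⁻¹ ∈ K) {g : G} {m : ℤ} (hg : InC K a g m) (n : ℕ) :
    InC K a (g ^ n) (n * m) := by
  induction n with
  | zero => simp [InC]
  | succ n ih =>
    rw [pow_succ]
    have := ih.mul hn hg
    have e : ((n : ℤ) * m + m) = ((n + 1 : ℕ) : ℤ) * m := by push_cast; ring
    rwa [e] at this

end

theorem inv_eq_of_sq {a : Aˣ} {N : A} (ha : (a : A) = 1 + N) (hN : N * N = 0) : ((a⁻¹ : Aˣ) : A) = 1 - N := by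
  have h : (a : A) * (1 - N) = 1 := by
    rw [ha]
    have : (1 + N) * (1 - N) = 1 - N * N := by noncomm_ring
    rw [this, hN, sub_zero]
  calc ((a⁻¹ : Aˣ) : A) = ((a⁻¹ : Aˣ) : A) * ((a : A) * (1 - N)) := by rw [h, mul_one]
    _ = 1 - N := by rw [← mul_assoc, Units.inv_mul, one_mul]

theorem pow_of_sq {N : A} (hN : N * N = 0) (n : ℕ) : (1 + N) ^ n = 1 + (n : A) * N := by
  induction n with
  | zero => simp
  | succ n ih =>
    rw [pow_succ, ih]
    have : (1 + (n : A) * N) * (1 + N) = 1 + N + (n : A) * N + (n : A) * (N * N) := by noncomm_ring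
    rw [this, hN, mul_zero, add_zero]
    push_cast
    noncomm_ring

/-- **A quadratic element of order `p ≥ 5` centralises every finite `p'`-group of units that it normalises.** -/
theorem commute_of_coprime_alg [FiniteDimensional F A] {p : ℕ} [Fact p.Prime] [CharP F p] (hp : 5 ≤ p)
    (K : Subgroup Aˣ) [Finite K] (hK : ¬ p ∣ Nat.card K) (a : Aˣ) (ha : ((a : A) - 1) * ((a : A) - 1) = 0)
    (hn : ∀ k ∈ K, a * k * a⁻¹ ∈ K) : ∀ k ∈ K, a * k = k * a := by
  classical
  rcases subsingleton_or_nontrivial A with hA | hA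
  · intro k _
    apply Units.ext
    exact Subsingleton.elim _ _
  have hpp : p.Prime := Fact.out
  have : CharP A p := charP_of_injective_algebraMap (algebraMap F A).injective p
  intro k hk
  set N : A := (a : A) - 1 with hNdef
  have haN : (a : A) = 1 + N := by rw [hNdef]; abel
  set b : Aˣ := k * a * k⁻¹ with hb
  set K1 : A := (k : A) * N * ((k⁻¹ : Aˣ) : A) with hK1
  have hbK : (b : A) = 1 + K1 := by
    rw [hb, Units.val_mul, Units.val_mul, haN, hK1, mul_add, add_mul, mul_one, Units.mul_inv]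
  have hKK : K1 * K1 = 0 := by
    have : K1 * K1 = (k : A) * (N * ((((k⁻¹ : Aˣ) : A) * (k : A)) * N)) * ((k⁻¹ : Aˣ) : A) := by
      rw [hK1]; noncomm_ring
    rw [this, Units.inv_mul, one_mul, ha]; simp
  have hap : a ^ p = 1 := by
    apply Units.ext
    rw [Units.val_pow_eq_pow_val, haN, pow_of_sq ha, CharP.cast_eq_zero, zero_mul, add_zero, Units.val_one]
  have hab : a * b⁻¹ ∈ K := by
    have : a * b⁻¹ = (a * k * a⁻¹) * k⁻¹ := by rw [hb]; group
    rw [this]; exact K.mul_mem (hn k hk) (K.inv_mem hk)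
  have hcK : ∀ x ∈ K, x ^ Nat.card K = 1 := by
    intro x hx
    have : (⟨x, hx⟩ : K) ^ Nat.card K = 1 := pow_card_eq_one'
    exact congrArg Subtype.val this
  by_cases hnil : IsNilpotent (N * K1)
  · have hS : ∀ u ∈ ({a, b} : Set Aˣ), IsGen F N K1 u := by
      intro u hu
      rcases hu with rfl | hu
      · exact Or.inl ⟨1, by rw [one_smul]; exact haN⟩
      · rw [Set.mem_singleton_iff] at hu
        exact Or.inr ⟨1, by rw [one_smul, hu]; exact hbK⟩
    have hP := isPGroup_closure (F := F) p ha hKK hnil hS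
    have hmem : a * b⁻¹ ∈ Subgroup.closure ({a, b} : Set Aˣ) :=
      Subgroup.mul_mem _ (Subgroup.subset_closure (by simp)) (Subgroup.inv_mem _ (Subgroup.subset_closure (by simp)))
    obtain ⟨n, hn'⟩ := hP ⟨_, hmem⟩
    have h1 : (a * b⁻¹) ^ p ^ n = 1 := congrArg Subtype.val hn'
    have h2 := hcK _ hab
    have h3 : orderOf (a * b⁻¹) ∣ Nat.gcd (p ^ n) (Nat.card K) :=
      Nat.dvd_gcd (orderOf_dvd_of_pow_eq_one h1) (orderOf_dvd_of_pow_eq_one h2)
    have h4 : Nat.gcd (p ^ n) (Nat.card K) = 1 := Nat.Coprime.pow_left _ ((Nat.Prime.coprime_iff_not_dvd hpp).mpr hK)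
    rw [h4, Nat.dvd_one, orderOf_eq_one_iff] at h3
    have h5 : a = b := by rw [← mul_inv_eq_one]; exact h3
    rw [hb] at h5
    calc a * k = (k * a * k⁻¹) * k := by rw [← h5]
      _ = k * a := by group
  · exfalso
    obtain ⟨c, v, hc, hv0, hv⟩ := exists_eig (F := F) hnil
    set i := (Algebra.TensorProduct.includeRight : A →ₐ[F] AlgebraicClosure F ⊗[F] A) with hi
    set w := i K1 * v with hw
    have hNw : i N * w = c • v := by rw [hw, ← mul_assoc, ← map_mul, hv]
    have hNv : i N * v = 0 := by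
      have : c • (i N * v) = 0 := by
        rw [← mul_smul_comm, ← hNw, ← mul_assoc, ← map_mul, ha, map_zero, zero_mul]
      exact (smul_eq_zero.mp this).resolve_left hc
    have hKw : i K1 * w = 0 := by rw [hw, ← mul_assoc, ← map_mul, hKK, map_zero, zero_mul]
    have hthv : i (th N K1) * v = c • v := by
      unfold th
      rw [map_add, add_mul, hv, map_mul i K1 N, mul_assoc, hNv, mul_zero, add_zero]
    have hthw : i (th N K1) * w = c • w := by
      unfold th
      rw [map_add, add_mul, map_mul i N K1, mul_assoc, hKw, mul_zero, zero_add, map_mul, mul_assoc, hNw, mul_smul_comm]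
    have : CharP (AlgebraicClosure F) p := charP_of_injective_algebraMap (algebraMap F (AlgebraicClosure F)).injective p
    have hnat : ∀ n : ℕ, n ≠ 0 → n < p → (n : AlgebraicClosure F) ≠ 0 := by
      intro n h0 hlt h
      rw [CharP.cast_eq_zero_iff _ p] at h
      exact absurd (Nat.le_of_dvd (Nat.pos_of_ne_zero h0) h) (by omega)
    -- choice of the exponent
    obtain ⟨j, hj2, hj3, hτ⟩ : ∃ j : ℕ, 2 ≤ j ∧ j ≤ 3 ∧ ((2 : AlgebraicClosure F) - j * c) ^ 2 ≠ 4 := by
      by_cases h2 : (2 : AlgebraicClosure F) * c = 4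
      · refine ⟨3, by norm_num, le_refl _, ?_⟩
        intro h
        have h3 : ((3 : ℕ) : AlgebraicClosure F) * c * (((3 : ℕ) : AlgebraicClosure F) * c - 4) = 0 := by
          linear_combination h
        have h4 : ((3 : ℕ) : AlgebraicClosure F) * c ≠ 0 := mul_ne_zero (hnat 3 (by norm_num) (by omega)) hc
        have h5 := (mul_eq_zero.mp h3).resolve_left h4
        apply hc
        push_cast at h5
        linear_combination h5 - h2
      · refine ⟨2, le_refl _, by norm_num, ?_⟩
        intro h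
        have h3 : ((2 : ℕ) : AlgebraicClosure F) * c * (((2 : ℕ) : AlgebraicClosure F) * c - 4) = 0 := by
          linear_combination h
        have h4 : ((2 : ℕ) : AlgebraicClosure F) * c ≠ 0 := mul_ne_zero (hnat 2 (by norm_num) (by omega)) hc
        have h5 := (mul_eq_zero.mp h3).resolve_left h4
        apply h2
        push_cast at h5
        linear_combination h5
    set u : Aˣ := a * (b⁻¹) ^ j with hu
    have hbinv : ((b⁻¹ : Aˣ) : A) = 1 + -K1 := by rw [inv_eq_of_sq hbK hKK, sub_eq_add_neg]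
    have hainv : ((a⁻¹ : Aˣ) : A) = 1 - N := inv_eq_of_sq haN ha
    have huval : (u : A) = (1 + N) * (1 - (j : A) * K1) := by
      rw [hu, Units.val_mul, Units.val_pow_eq_pow_val, hbinv, pow_of_sq (by rw [neg_mul_neg]; exact hKK), haN]
      noncomm_ring
    have huinv : ((u⁻¹ : Aˣ) : A) = (1 + (j : A) * K1) * (1 - N) := by
      have : u⁻¹ = b ^ j * a⁻¹ := by rw [hu]; group
      rw [this, Units.val_mul, Units.val_pow_eq_pow_val, hbK, pow_of_sq hKK, hainv]
    have husum : (u : A) * u + 1 = (u : A) * (2 - (j : A) * th N K1) := by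
      have h1 : (u : A) + ((u⁻¹ : Aˣ) : A) = 2 - (j : A) * th N K1 := by
        rw [huval, huinv]
        unfold th
        have hc1 : N * (j : A) = (j : A) * N := (Nat.cast_commute j N).symm
        have : (1 + N) * (1 - (j : A) * K1) + (1 + (j : A) * K1) * (1 - N) =
            2 - (N * (j : A)) * K1 - (j : A) * (K1 * N) := by
          have e : (2 : A) = 1 + 1 := by norm_num
          rw [e]; noncomm_ring
        rw [this, hc1]; noncomm_ring
      rw [← h1, mul_add, Units.mul_inv]
    -- the operators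
    let ρ : A → Module.End (AlgebraicClosure F) (AlgebraicClosure F ⊗[F] A) := fun x => Algebra.lmul _ _ (i x)
    have hρ : ∀ x y, ρ x y = i x * y := fun x y => rfl
    have hρpow : ∀ (x : A) (n : ℕ) y, (ρ x ^ n) y = i (x ^ n) * y := by
      intro x n
      induction n with
      | zero => intro y; simp
      | succ n ih => intro y; rw [pow_succ', Module.End.mul_apply, ih, hρ, ← mul_assoc, ← map_mul, ← pow_succ']
    have huK : InC K a u (1 - j) := by
      unfold InC
      have h1 : InC K a (a * b⁻¹) 0 := by unfold InC; simpa using hab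
      have h2 : InC K a a 1 := by unfold InC; simp
      have h3 : InC K a b⁻¹ (-1) := by
        have := (h2.inv hn).mul hn h1
        simpa using this
      have := h2.mul hn (h3.pow hn j)
      rw [hu]
      have e : (1 : ℤ) + (j : ℤ) * (-1) = 1 - j := by ring
      rw [e] at this
      exact this
    set κ := Nat.card K with hκ
    have hup : u ^ (κ * p) = 1 := by
      have h1 := huK.pow hn p
      unfold InC at h1
      have h2 : a ^ (-((p : ℤ) * (1 - j))) = 1 := by
        rw [neg_mul_eq_mul_neg, zpow_mul, zpow_natCast, hap, one_zpow]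
      rw [h2, one_mul] at h1
      rw [mul_comm, pow_mul]
      exact hcK _ h1
    have hfix : ∀ y, i (th N K1) * y = c • y → i ((u ^ κ : Aˣ) : A) * y = y := by
      intro y hy
      have := pow_fix (p := p) (ρ u) (τ := 2 - j * c) hτ (y := y) (κ := κ) (by
        have h1 := congrArg (fun z => i z * y) husum
        simp only [map_add, map_mul, map_sub, map_one, map_natCast, map_ofNat] at h1
        rw [add_mul, one_mul, mul_assoc, mul_assoc, sub_mul, mul_assoc, hy] at h1
        have h2 : (2 : AlgebraicClosure F ⊗[F] A) * y = (2 : AlgebraicClosure F) • y := by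
          rw [two_mul, two_smul]
        have h3 : ((j : ℕ) : AlgebraicClosure F ⊗[F] A) * (c • y) = ((j : AlgebraicClosure F) * c) • y := by
          rw [← nsmul_eq_mul, mul_smul, Nat.cast_smul_eq_nsmul]
        rw [h2, h3, ← sub_smul, mul_smul_comm] at h1
        rw [hρ, hρ, ← h1]
        abel_nf) (by
        rw [hρpow, ← Units.val_pow_eq_pow_val, hup, Units.val_one, map_one, one_mul])
      rw [hρpow, ← Units.val_pow_eq_pow_val] at this
      exact this
    have hxv := hfix v hthv
    have hxw := hfix w hthw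
    -- the power in the coset of `a`
    have hxC : InC K a (u ^ κ) ((κ : ℤ) * (1 - j)) := huK.pow hn κ
    obtain ⟨l, hl⟩ : ∃ l : ℕ, (p : ℤ) ∣ (l : ℤ) * ((κ : ℤ) * (1 - j)) - 1 := by
      have hcop : IsCoprime ((κ : ℤ) * (1 - j)) (p : ℤ) := by
        apply IsCoprime.mul_left
        · exact Nat.isCoprime_iff_coprime.mpr ((Nat.Prime.coprime_iff_not_dvd hpp).mpr hK).symm
        · rw [isCoprime_comm, Int.isCoprime_iff_gcd_eq_one]
          interval_cases j
          · simp
          · have : Nat.Coprime p 2 := (Nat.coprime_primes hpp Nat.prime_two).mpr (by omega)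
            simpa [Int.gcd] using this
      obtain ⟨x, y, hxy⟩ := hcop
      refine ⟨(x % p).toNat, ?_⟩
      have h1 : 0 ≤ x % p := Int.emod_nonneg _ (by exact_mod_cast hpp.ne_zero)
      rw [Int.toNat_of_nonneg h1]
      have h2 : x % p = x - p * (x / p) := by rw [Int.emod_def]
      rw [h2]
      refine ⟨-(x / p) * ((κ : ℤ) * (1 - j)) - y, ?_⟩
      linear_combination hxy
    have hxl : InC K a ((u ^ κ) ^ l) ((l : ℤ) * ((κ : ℤ) * (1 - j))) := hxC.pow hn l
    obtain ⟨m, hm⟩ := hl
    have hh : a⁻¹ * (u ^ κ) ^ l ∈ K := by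
      unfold InC at hxl
      have e : a ^ (-((l : ℤ) * ((κ : ℤ) * (1 - j)))) = a⁻¹ := by
        have : -((l : ℤ) * ((κ : ℤ) * (1 - j))) = -1 + (p : ℤ) * (-m) := by linear_combination -hm
        rw [this, zpow_add, zpow_mul, zpow_natCast, hap, one_zpow, mul_one, zpow_neg_one]
      rwa [e] at hxl
    set h := a⁻¹ * (u ^ κ) ^ l with hhdef
    have hfixl : ∀ y, i ((u ^ κ : Aˣ) : A) * y = y → ∀ n : ℕ, i (((u ^ κ) ^ n : Aˣ) : A) * y = y := by
      intro y hy n
      induction n with
      | zero => simp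
      | succ n ih => rw [pow_succ, Units.val_mul, map_mul, mul_assoc, hy, ih]
    have hhv : i (h : A) * v = v := by
      rw [hhdef, Units.val_mul, map_mul, mul_assoc, hfixl v hxv, hainv, map_sub, map_one, sub_mul, one_mul, hNv, sub_zero]
    have hhw : i (h : A) * w = w - c • v := by
      rw [hhdef, Units.val_mul, map_mul, mul_assoc, hfixl w hxw, hainv, map_sub, map_one, sub_mul, one_mul, hNw]
    have hhn : ∀ n : ℕ, i ((h ^ n : Aˣ) : A) * w = w - ((n : AlgebraicClosure F) * c) • v := by
      intro n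
      induction n with
      | zero => simp
      | succ n ih =>
        rw [pow_succ', Units.val_mul, map_mul, mul_assoc, ih, mul_sub, hhw, mul_smul_comm, hhv]
        push_cast
        module
    have h1 := hhn κ
    rw [hcK h hh, Units.val_one, map_one, one_mul] at h1
    have h2 : ((κ : AlgebraicClosure F) * c) • v = 0 := by
      have := sub_eq_zero.mpr h1.symm
      rw [← neg_eq_zero, ← this]; abel
    rcases smul_eq_zero.mp h2 with h3 | h3
    · rcases mul_eq_zero.mp h3 with h4 | h4
      · exact hK ((CharP.cast_eq_zero_iff _ p _).mp h4)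
      · exact hc h4
    · exact hv0 h3

/-- matrix version -/
theorem commute_of_coprime {F : Type*} [Field F] {ι : Type*} [Fintype ι] [DecidableEq ι] {p : ℕ} [Fact p.Prime] [CharP F p]
    (hp : 5 ≤ p) (K : Subgroup (Matrix.GeneralLinearGroup ι F)) [Finite K] (hK : ¬ p ∣ Nat.card K)
    (a : Matrix.GeneralLinearGroup ι F)
    (ha : ((a : Matrix ι ι F) - 1) * ((a : Matrix ι ι F) - 1) = 0)
    (hn : ∀ k ∈ K, a * k * a⁻¹ ∈ K) : ∀ k ∈ K, a * k = k * a :=
  commute_of_coprime_alg (F := F) hp K hK a ha hn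

end Cfsg.Agent.H891.QP
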